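import Groth.Prelude.Def_W4c1imperftorsorsPerf
import Mathlib.RingTheory.AdjoinRoot
import Mathlib.Algebra.CharP.Lemmas
import Mathlib.Data.ZMod.Units
import Mathlib.Algebra.Field.ZMod

/-!
The preperfection of `R[α]/(uα, α² - v²)`.
-/

set_option autoImplicit false
set_option linter.style.haveILetI false
universe u

open Polynomial TensorProduct W4c1imperftorsors

namespace Groth.Agent.H1PrePerf

variable (p : ℕ) [Fact p.Prime] (R : Type u) [CommRing R] [CharP R p] (u v : R)

noncomputable abbrev I : Ideal R[X] := Ideal.span {(C u * X : R[X]), X ^ 2 - C (v ^ 2)}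

noncomputable abbrev B : Type u := R[X] ⧸ I R u v

/-- The class of `α` in the twist. -/
noncomputable def al (i : ℕ) : Twist p R (B R u v) i :=
  (1 : R) ⊗ₜ[Src p R i] (aEquiv p R (B R u v) i).symm (Ideal.Quotient.mk (I R u v) X)

/-- Maps out of a twist. -/
noncomputable def homTo (i : ℕ) (S : Type u) [CommRing S] [Algebra R S] (x : S)
    (h1 : algebraMap R S u ^ p ^ i * x = 0) (h2 : x ^ 2 = algebraMap R S (v ^ 2) ^ p ^ i) :
    Twist p R (B R u v) i →+* S :=
  letI : Algebra (Src p R i) S := ((algebraMap R S).comp (algebraMap (Src p R i) R)).toAlgebra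
  haveI : IsScalarTower (Src p R i) R S := IsScalarTower.of_algebraMap_eq fun _ => rfl
  (Algebra.TensorProduct.lift (Algebra.ofId R S)
    ({ toRingHom := (Ideal.Quotient.lift (I R u v)
          (eval₂RingHom ((algebraMap R S).comp (iterateFrobenius R p i)) x) (fun f hf => by
            refine (RingHom.mem_ker).1 ((Ideal.span_le.2 ?_ : I R u v ≤ RingHom.ker _) hf)
            rintro f (rfl | rfl)
            · simp only [SetLike.mem_coe, RingHom.mem_ker, coe_eval₂RingHom, eval₂_mul, eval₂_C, eval₂_X,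
                RingHom.comp_apply, iterateFrobenius_def, map_pow, h1]
            · simp only [SetLike.mem_coe, RingHom.mem_ker, coe_eval₂RingHom, eval₂_sub, eval₂_X_pow, eval₂_C,
                RingHom.comp_apply, iterateFrobenius_def]
              rw [h2, ← map_pow, sub_self])).comp (aEquiv p R (B R u v) i).toRingHom
       commutes' := fun s => by
          show eval₂ _ x (C (srcEquiv p R i s)) = _
          rw [eval₂_C]; rfl } : ASrc p R (B R u v) i →ₐ[Src p R i] S)
    fun _ _ => Commute.all _ _).toRingHom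

theorem homTo_al (i : ℕ) (S : Type u) [CommRing S] [Algebra R S] (x : S)
    (h1 : algebraMap R S u ^ p ^ i * x = 0) (h2 : x ^ 2 = algebraMap R S (v ^ 2) ^ p ^ i) :
    homTo p R u v i S x h1 h2 (al p R u v i) = x := by
  simp only [homTo, al, AlgHom.toRingHom_eq_coe, RingHom.coe_coe, Algebra.TensorProduct.lift_tmul, map_one, one_mul]
  exact eval₂_X _ x

theorem homTo_algebraMap (i : ℕ) (S : Type u) [CommRing S] [Algebra R S] (x : S)
    (h1 : algebraMap R S u ^ p ^ i * x = 0) (h2 : x ^ 2 = algebraMap R S (v ^ 2) ^ p ^ i) (r : R) :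
    homTo p R u v i S x h1 h2 (algebraMap R _ r) = algebraMap R S r := by
  rw [Algebra.TensorProduct.algebraMap_apply, Algebra.algebraMap_self, RingHom.id_apply]
  simp only [homTo, AlgHom.toRingHom_eq_coe, RingHom.coe_coe, Algebra.TensorProduct.lift_tmul, map_one, mul_one]
  rfl

theorem tmul_mk_C (i : ℕ) (b : R) :
    (1 : R) ⊗ₜ[Src p R i] (aEquiv p R (B R u v) i).symm (Ideal.Quotient.mk (I R u v) (C b)) =
      algebraMap R (Twist p R (B R u v) i) (b ^ p ^ i) := by
  rw [Algebra.TensorProduct.algebraMap_apply, Algebra.algebraMap_self, RingHom.id_apply]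
  have h : (aEquiv p R (B R u v) i).symm (Ideal.Quotient.mk (I R u v) (C b)) =
      ((srcEquiv p R i).symm b) • (1 : ASrc p R (B R u v) i) := by
    rw [← Algebra.algebraMap_eq_smul_one, algebraMap_aSrc, RingEquiv.apply_symm_apply]
    rfl
  rw [h, ← TensorProduct.smul_tmul, Algebra.smul_def, algebraMap_src, RingEquiv.apply_symm_apply, mul_one]

theorem al_sq (i : ℕ) : al p R u v i ^ 2 = algebraMap R _ ((v ^ 2) ^ p ^ i) := by
  rw [← tmul_mk_C, al, Algebra.TensorProduct.tmul_pow, one_pow, ← map_pow, ← map_pow]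
  congr 2
  exact Ideal.Quotient.eq.2 (show X ^ 2 - C (v ^ 2) ∈ I R u v from Ideal.subset_span (Or.inr rfl))

theorem u_al (i : ℕ) : algebraMap R _ (u ^ p ^ i) * al p R u v i = 0 := by
  rw [← tmul_mk_C, al, Algebra.TensorProduct.tmul_mul_tmul, ← map_mul, ← map_mul,
    Ideal.Quotient.eq_zero_iff_mem.2 (show C u * X ∈ I R u v from Ideal.subset_span (Or.inl rfl)), map_zero,
    TensorProduct.tmul_zero]

theorem exists_rep (i : ℕ) (z : Twist p R (B R u v) i) :
    ∃ a b : R, z = algebraMap R _ a + algebraMap R _ b * al p R u v i := by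
  induction z using TensorProduct.induction_on with
  | zero => exact ⟨0, 0, by simp⟩
  | add z w hz hw =>
    obtain ⟨a, b, rfl⟩ := hz; obtain ⟨c, d, rfl⟩ := hw
    exact ⟨a + c, b + d, by simp only [map_add]; ring⟩
  | tmul r x =>
    obtain ⟨x, rfl⟩ := (aEquiv p R (B R u v) i).symm.surjective x
    obtain ⟨f, rfl⟩ := Ideal.Quotient.mk_surjective x
    suffices h : ∃ a b : R, (1 : R) ⊗ₜ[Src p R i] (aEquiv p R (B R u v) i).symm (Ideal.Quotient.mk _ f) =
        algebraMap R _ a + algebraMap R _ b * al p R u v i by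
      obtain ⟨a, b, h⟩ := h
      refine ⟨r * a, r * b, ?_⟩
      rw [map_mul, map_mul, mul_assoc, ← mul_add, ← h, Algebra.TensorProduct.algebraMap_apply,
        Algebra.algebraMap_self, RingHom.id_apply, Algebra.TensorProduct.tmul_mul_tmul, mul_one, one_mul]
    induction f using Polynomial.induction_on with
    | C c => exact ⟨c ^ p ^ i, 0, by rw [tmul_mk_C, map_zero, zero_mul, add_zero]⟩
    | add f g hf hg =>
      obtain ⟨a, b, hf⟩ := hf; obtain ⟨c, d, hg⟩ := hg
      exact ⟨a + c, b + d, by rw [map_add, map_add, TensorProduct.tmul_add, hf, hg]; simp only [map_add]; ring⟩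
    | monomial n c h =>
      obtain ⟨a, b, h⟩ := h
      refine ⟨b * (v ^ 2) ^ p ^ i, a, ?_⟩
      have hm : ∀ x y : ASrc p R (B R u v) i,
          (1 : R) ⊗ₜ[Src p R i] (x * y) = ((1 : R) ⊗ₜ[Src p R i] x) * ((1 : R) ⊗ₜ[Src p R i] y) := fun x y => by
        rw [Algebra.TensorProduct.tmul_mul_tmul, one_mul]
      rw [pow_succ, ← mul_assoc, map_mul (Ideal.Quotient.mk (I R u v)), map_mul, hm, h, map_mul, ← al_sq]
      show (_ + _) * al p R u v i = _
      ring

theorem relFrob_al [CharP (B R u v) p] {m : ℕ} (hm : p = 2 * m + 1) (i : ℕ) :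
    relFrob p R (B R u v) i (al p R u v (i + 1)) =
      algebraMap R _ (((v ^ 2) ^ p ^ i) ^ m) * al p R u v i := by
  have h : relFrob p R (B R u v) i (al p R u v (i + 1)) = al p R u v i ^ p := by
    show relFrobAux p R (B R u v) i _ = _
    rw [relFrobAux, al, Algebra.TensorProduct.lift_tmul, map_one, one_mul, al,
      Algebra.TensorProduct.tmul_pow, one_pow, ← map_pow]
    rfl
  rw [h, show al p R u v i ^ p = al p R u v i ^ (2 * m + 1) from congrArg (fun k => al p R u v i ^ k) hm,
    pow_succ, pow_mul, al_sq, ← map_pow]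

theorem exists_eps (huv : u * v = 0) (i : ℕ) (s : R) (hs : s ^ 2 = 1) :
    ∃ e : Twist p R (B R u v) i →+* R, (∀ r, e (algebraMap R _ r) = r) ∧ e (al p R u v i) = s * v ^ p ^ i := by
  refine ⟨homTo p R u v i R (s * v ^ p ^ i) ?_ ?_, fun r => homTo_algebraMap .., homTo_al ..⟩
  · simp only [Algebra.algebraMap_self, RingHom.id_apply]
    rw [mul_left_comm, ← mul_pow, huv, zero_pow (pow_pos (Fact.out (p := p.Prime)).pos i).ne', mul_zero]
  · simp only [Algebra.algebraMap_self, RingHom.id_apply]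
    rw [mul_pow, hs, one_mul, ← pow_mul, ← pow_mul, mul_comm]

/-- The constant coefficient is well defined. -/
theorem coef_zero (hp : p ≠ 2) (huv : u * v = 0) (i : ℕ) {a b : R}
    (h : algebraMap R (Twist p R (B R u v) i) a + algebraMap R _ b * al p R u v i = 0) : a = 0 := by
  obtain ⟨e₁, h₁, h₁'⟩ := exists_eps p R u v huv i 1 (one_pow 2)
  obtain ⟨e₂, h₂, h₂'⟩ := exists_eps p R u v huv i (-1) (by norm_num)
  have e := congrArg e₁ h
  have e' := congrArg e₂ h
  simp only [map_add, map_mul, map_zero, h₁, h₁'] at e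
  simp only [map_add, map_mul, map_zero, h₂, h₂'] at e'
  have h2 : IsUnit ((2 : ℕ) : R) := by
    have hcop : Nat.Coprime 2 p := (Nat.coprime_primes Nat.prime_two Fact.out).2 hp.symm
    have : IsUnit ((2 : ℕ) : ZMod p) := (ZMod.unitOfCoprime 2 hcop).isUnit
    have h3 := this.map (ZMod.castHom (dvd_refl p) R)
    rwa [map_natCast] at h3
  refine h2.mul_right_eq_zero.1 ?_
  linear_combination e + e'

/-- The coefficient of `α` is well defined modulo `u ^ p ^ i`. -/
theorem coef_mem (i : ℕ) {b : R} (h : algebraMap R (Twist p R (B R u v) i) b * al p R u v i = 0) :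
    b ∈ Ideal.span {u ^ p ^ i} := by
  rw [← Ideal.Quotient.eq_zero_iff_mem]
  nontriviality (R ⧸ Ideal.span {u ^ p ^ i})
  let f : (R ⧸ Ideal.span {u ^ p ^ i})[X] := X ^ 2 - C (Ideal.Quotient.mk _ ((v ^ 2) ^ p ^ i))
  have hf : f.Monic := monic_X_pow_sub_C _ two_ne_zero
  letI : Algebra R (AdjoinRoot f) :=
    ((AdjoinRoot.of f).comp (Ideal.Quotient.mk (Ideal.span {u ^ p ^ i}))).toAlgebra
  let e := homTo p R u v i (AdjoinRoot f) (AdjoinRoot.root f) (by
    rw [← map_pow]
    show AdjoinRoot.of f (Ideal.Quotient.mk _ (u ^ p ^ i)) * _ = 0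
    rw [Ideal.Quotient.eq_zero_iff_mem.2 (Ideal.mem_span_singleton_self _), map_zero, zero_mul]) (by
    rw [← map_pow]
    show _ = AdjoinRoot.of f (Ideal.Quotient.mk _ ((v ^ 2) ^ p ^ i))
    have := AdjoinRoot.eval₂_root f
    simp only [f, eval₂_sub, eval₂_X_pow, eval₂_C, sub_eq_zero] at this
    exact this)
  have := congrArg e h
  rw [map_mul, map_zero, homTo_al, homTo_algebraMap] at this
  change AdjoinRoot.mk f (C (Ideal.Quotient.mk (Ideal.span {u ^ p ^ i}) b)) * AdjoinRoot.mk f X = 0 at this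
  rw [← map_mul, AdjoinRoot.mk_eq_zero] at this
  by_contra hb
  refine hf.not_dvd_of_degree_lt ?_ ?_ this
  · intro h0
    have := congrArg (fun g => g.coeff 1) h0
    simp at this
    exact hb this
  · rw [degree_X_pow_sub_C two_pos]
    exact (degree_C_mul_X_le _).trans_lt (by norm_num)

end Groth.Agent.H1PrePerf
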